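import Mathlib.Topology.Sheaves.Flasque
import Mathlib.Topology.Sheaves.Skyscraper
import Mathlib.Topology.Sheaves.Sheafify
import Mathlib.Topology.Category.TopCat.Adjunctions
import Mathlib.Topology.Sheaves.Functors
import Mathlib.Algebra.Category.Grp.FilteredColimits
import Mathlib.Algebra.Category.Grp.EpiMono
import Mathlib.Topology.Sheaves.Stalks
import Groth.Prelude.Def_CohTop

/-!
# The first step of the Godement resolution
-/

set_option autoImplicit false

universe u

open CategoryTheory CategoryTheory.Limits TopologicalSpace Opposite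

namespace Groth.Agent.Lib.Godement.First

/-- Sheaves on a discrete space are flasque. -/
theorem isFlasque_of_discrete {X : TopCat.{u}} [DiscreteTopology X] (F : CohTop.Ab X) :
    TopCat.Sheaf.IsFlasque F := by
  constructor
  intro U V i
  rw [AddCommGrpCat.epi_iff_surjective]
  intro s
  have hVU : V.unop ≤ U.unop := i.unop.le
  let W : Opens X := ⟨(U.unop : Set X) \ V.unop, isOpen_discrete _⟩
  let cov : ULift.{u} Bool → Opens X := fun b => bif b.down then V.unop else W
  have hsf : ∀ b, cov b ≤ U.unop := fun b => by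
    rcases b with ⟨_ | _⟩
    · exact fun x hx => hx.1
    · exact hVU
  have hcov : U.unop ≤ iSup cov := fun x hx => by
    by_cases hxV : x ∈ V.unop
    · exact Opens.mem_iSup.2 ⟨⟨true⟩, hxV⟩
    · exact Opens.mem_iSup.2 ⟨⟨false⟩, hx, hxV⟩
  let sf : ∀ b, F.obj.obj (op (cov b)) := fun b => match b with
    | ⟨true⟩ => s
    | ⟨false⟩ => 0
  have hempty : ∀ (O : Opens X), (∀ x, x ∉ O) → ∀ a b : F.obj.obj (op O), a = b := fun O hO a b =>
    TopCat.Sheaf.eq_of_locally_eq' F (fun e : PEmpty.{u + 1} => (e.elim : Opens X)) O (fun e => e.elim)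
      (fun x hx => absurd hx (hO x)) _ _ fun e => e.elim
  obtain ⟨t, ht, -⟩ := TopCat.Sheaf.existsUnique_gluing' F cov U.unop (fun b => homOfLE (hsf b)) hcov sf
    fun a b => by
      rcases a with ⟨_ | _⟩ <;> rcases b with ⟨_ | _⟩
      · rfl
      · exact hempty (cov ⟨false⟩ ⊓ cov ⟨true⟩) (fun x hx => hx.1.2 hx.2) _ _
      · exact hempty (cov ⟨true⟩ ⊓ cov ⟨false⟩) (fun x hx => hx.2.2 hx.1) _ _
      · rfl
  refine ⟨t, ?_⟩
  have h := ht ⟨true⟩
  exact h

variable {X : TopCat.{u}}

/-- The unit towards the discretised space is a monomorphism. -/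
theorem mono_unit (F : CohTop.Ab X) :
    Mono ((TopCat.Sheaf.pullbackPushforwardAdjunction AddCommGrpCat.{u}
      (TopCat.adj₁.counit.app X)).unit.app F) := by
  classical
  let f := TopCat.adj₁.counit.app X
  let adj := TopCat.Sheaf.pullbackPushforwardAdjunction AddCommGrpCat.{u} f
  refine Preadditive.mono_of_cancel_zero _ fun {G} k hk => ?_
  -- the map to the skyscraper at each point factors through the unit
  have hz : ∀ x : X, k ≫ (stalkSkyscraperSheafAdjunction x).unit.app F = 0 := fun x => by
    let A := (TopCat.Sheaf.forget AddCommGrpCat.{u} X ⋙ TopCat.Presheaf.stalkFunctor _ x).obj F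
    have heq : (TopCat.Sheaf.pushforward AddCommGrpCat.{u} f).obj
        (skyscraperSheaf (X := TopCat.discrete.obj X) x A) = skyscraperSheaf x A := by
      exact rfl
    let φ : F ⟶ (TopCat.Sheaf.pushforward AddCommGrpCat.{u} f).obj
        (skyscraperSheaf (X := TopCat.discrete.obj X) x A) :=
      (stalkSkyscraperSheafAdjunction x).unit.app F ≫ eqToHom heq.symm
    have hfac := (adj.homEquiv_unit (f := (adj.homEquiv _ _).symm φ)).symm.trans
      ((adj.homEquiv _ _).apply_symm_apply φ)
    have h0 : k ≫ φ = 0 := by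
      rw [← hfac]
      exact (Category.assoc _ _ _).symm.trans ((congrArg (· ≫ _) hk).trans zero_comp)
    refine (cancel_mono (eqToHom heq.symm)).1 ((Category.assoc _ _ _).trans (h0.trans ?_))
    exact zero_comp.symm
  apply CategoryTheory.Sheaf.hom_ext
  refine NatTrans.ext (funext fun U => ?_)
  ext s
  refine TopCat.Presheaf.section_ext F U.unop _ _ fun x hx => ?_
  have h : (TopCat.Sheaf.forget AddCommGrpCat.{u} X ⋙ TopCat.Presheaf.stalkFunctor _ x).map k = 0 := by
    apply ((stalkSkyscraperSheafAdjunction x).homEquiv _ _).injective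
    rw [Adjunction.homEquiv_unit, Adjunction.homEquiv_unit]
    refine ((stalkSkyscraperSheafAdjunction x).unit.naturality k).symm.trans ((hz x).trans ?_)
    rw [Functor.map_zero, comp_zero]
  exact ((TopCat.Presheaf.stalkFunctor_map_germ_apply U.unop x hx k.hom s).symm.trans
    (ConcreteCategory.congr_hom h _)).trans (map_zero _).symm

end Groth.Agent.Lib.Godement.First
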